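import Cfsg.Agent.Lib.Recog.SuzEleven.Checks

/-!
Probe rows separating the rows by adjacency (owner: helper22).
-/

set_option autoImplicit false
set_option maxRecDepth 100000
set_option Elab.async false

namespace CfsgLib.Recog.SuzEleven

open CfsgLib.ThreeTrans.CosetIndex CfsgLib.Recog.SuzRankThree

/-- the first probes at a row -/
noncomputable def sigA (y : ℕ) : List Bool := Data.probesA.map fun e => rowBit e.1 y

/-- the separating probes at a row -/
noncomputable def sigB (y : ℕ) : ℕ :=
  Data.probesB.foldl (fun r e => 2 * r + cond (rowBit e.1 y) 1 0) 0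

theorem probesA_ok : (Data.probesA.all fun e => Nat.blt e.2 243 &&
    Nat.beq (D.trace 0 e.1) (apN e.2 (repN 0))) = true := by decide +kernel

theorem probesB_ok : (Data.probesB.all fun e => Nat.blt e.2.1 243 &&
    Nat.beq (D.trace 0 e.1) (apN e.2.1 (repN (cond e.2.2 6 0)))) = true := by decide +kernel

theorem move_ok : ((List.range 243).all fun n => !(sigA (apN n (repN 6)) == sigA (repN 6)) ||
    Nat.beq (apN n (repN 6)) (repN 6) || Nat.beq (apN n (repN 6)) (apN (lineN 0) (repN 6)) ||
    Nat.beq (apN n (repN 6)) (apN (negN (lineN 0)) (repN 6))) = true := by decide +kernel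

/-- the row in a position of the sorted list -/
noncomputable def ordAt (i : ℕ) : ℕ := at16 Data.ordS i

/-- the signature in a position -/
noncomputable def sigAt (i : ℕ) : ℕ := sigB (ordAt i)

/-- the check of a part of the order -/
noncomputable def sortedOK (lo len : ℕ) : Bool :=
  (List.range len).all fun i => Nat.blt (ordAt (lo + i)) 1782 && Nat.blt (sigAt (lo + i)) (sigAt (lo + i + 1))

theorem sorted_of_part {lo len i : ℕ} (h : sortedOK lo len = true) (h1 : lo ≤ i) (h2 : i < lo + len) :
    ordAt i < 1782 ∧ sigAt i < sigAt (i + 1) := by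
  simp only [sortedOK, List.all_eq_true, List.mem_range, Bool.and_eq_true, Nat.blt_eq] at h
  have := h (i - lo) (by omega)
  rwa [Nat.add_sub_cancel' h1] at this

theorem sorted_part0 : sortedOK 0 137 = true := by decide +kernel

theorem sorted_part1 : sortedOK 137 137 = true := by decide +kernel

theorem sorted_part2 : sortedOK 274 137 = true := by decide +kernel

theorem sorted_part3 : sortedOK 411 137 = true := by decide +kernel

theorem sorted_part4 : sortedOK 548 137 = true := by decide +kernel

theorem sorted_part5 : sortedOK 685 137 = true := by decide +kernel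

theorem sorted_part6 : sortedOK 822 137 = true := by decide +kernel

theorem sorted_part7 : sortedOK 959 137 = true := by decide +kernel

theorem sorted_part8 : sortedOK 1096 137 = true := by decide +kernel

theorem sorted_part9 : sortedOK 1233 137 = true := by decide +kernel

theorem sorted_part10 : sortedOK 1370 137 = true := by decide +kernel

theorem sorted_part11 : sortedOK 1507 137 = true := by decide +kernel

theorem sorted_part12 : sortedOK 1644 137 = true := by decide +kernel

theorem sorted_last : ordAt 1781 < 1782 := by decide +kernel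

theorem sorted_ok {i : ℕ} (hi : i < 1781) : ordAt i < 1782 ∧ sigAt i < sigAt (i + 1) := by
  rcases Nat.lt_or_ge i 137 with c | c
  · exact sorted_of_part sorted_part0 (by omega) c
  rcases Nat.lt_or_ge i 274 with c | c
  · exact sorted_of_part sorted_part1 (by omega) c
  rcases Nat.lt_or_ge i 411 with c | c
  · exact sorted_of_part sorted_part2 (by omega) c
  rcases Nat.lt_or_ge i 548 with c | c
  · exact sorted_of_part sorted_part3 (by omega) c
  rcases Nat.lt_or_ge i 685 with c | c
  · exact sorted_of_part sorted_part4 (by omega) c
  rcases Nat.lt_or_ge i 822 with c | c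
  · exact sorted_of_part sorted_part5 (by omega) c
  rcases Nat.lt_or_ge i 959 with c | c
  · exact sorted_of_part sorted_part6 (by omega) c
  rcases Nat.lt_or_ge i 1096 with c | c
  · exact sorted_of_part sorted_part7 (by omega) c
  rcases Nat.lt_or_ge i 1233 with c | c
  · exact sorted_of_part sorted_part8 (by omega) c
  rcases Nat.lt_or_ge i 1370 with c | c
  · exact sorted_of_part sorted_part9 (by omega) c
  rcases Nat.lt_or_ge i 1507 with c | c
  · exact sorted_of_part sorted_part10 (by omega) c
  rcases Nat.lt_or_ge i 1644 with c | c
  · exact sorted_of_part sorted_part11 (by omega) c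
  exact sorted_of_part sorted_part12 (by omega) (by omega)

/-- The probes separate the rows. -/
theorem sigB_inj {a b : Fin D.n} (h : sigB a = sigB b) : a = b := by
  have hlt : ∀ i : Fin D.n, ordAt i < D.n := fun i => by
    rcases (show (i : ℕ) < 1781 ∨ (i : ℕ) = 1781 from by have hi : (i : ℕ) < 1782 := i.2; omega) with c | c
    · exact (sorted_ok c).1
    · rw [c]; exact sorted_last
  let f : Fin D.n → Fin D.n := fun i => ⟨ordAt i, hlt i⟩
  have hmono : StrictMono fun i : Fin D.n => sigB (f i) := by
    intro i j hij
    have key : ∀ m, (i : ℕ) + 1 + m < 1782 → sigAt i < sigAt ((i : ℕ) + 1 + m) := by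
      intro m
      induction m with
      | zero => intro hm; exact (sorted_ok (by omega)).2
      | succ m ih => intro hm; exact lt_trans (ih (by omega)) (sorted_ok (i := (i : ℕ) + 1 + m) (by omega)).2
    have hj : (j : ℕ) < 1782 := j.2
    have := key ((j : ℕ) - (i : ℕ) - 1) (by omega)
    rwa [show (i : ℕ) + 1 + ((j : ℕ) - (i : ℕ) - 1) = (j : ℕ) by omega] at this
  have hf : Function.Bijective f := Finite.injective_iff_bijective.1 fun i j e => hmono.injective (by simp only [e])
  obtain ⟨i, rfl⟩ := hf.2 a
  obtain ⟨j, rfl⟩ := hf.2 b
  rw [hmono.injective h]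

end CfsgLib.Recog.SuzEleven
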