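import Cfsg.Agent.Lib.Recog.SuzEleven.Model
import Cfsg.Agent.Lib.Recog.SuzEleven.Probes

/-!
The group of order 243 is its own centraliser (owner: helper22).
-/

set_option autoImplicit false
set_option maxRecDepth 100000
set_option Elab.async false

namespace CfsgLib.Recog.SuzEleven

open CfsgLib.ThreeTrans.CosetIndex CfsgLib.Recog.SuzRankThree

/-- Centralisers of involutions have order prime to 11 and not divisible by 243. -/
def InvHyp : Prop := ∀ t : G0, t * t = 1 → t ≠ 1 →
  ¬ 243 ∣ Nat.card (Subgroup.centralizer ({t} : Set G0)) ∧ ¬ 11 ∣ Nat.card (Subgroup.centralizer ({t} : Set G0))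

theorem orbit_pairs : (∀ r < 22, lineAt r = 9 → r = 6 ∨ r = 13) ∧ (∀ r < 22, lineAt r = 0 → r = 0 ∨ r = 18) ∧
    lineAt 6 = 9 ∧ lineAt 13 = 9 ∧ lineAt 0 = 0 ∧ lineAt 18 = 0 := by decide +kernel

theorem orbit_apart : ((List.range 243).all fun n => !(Nat.beq (apN n (repN 6)) (repN 13)) &&
    !(Nat.beq (apN n (repN 0)) (repN 18))) = true := by decide +kernel

theorem apart {r r' : ℕ} (h : (r, r') = (6, 13) ∨ (r, r') = (0, 18)) (v : V) : (el v).1 (pnt r) ≠ pnt r' := by
  intro e
  have ha := orbit_apart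
  simp only [List.all_eq_true, List.mem_range, Bool.and_eq_true, Bool.not_eq_true', Bool.eq_false_iff, ne_eq,
    Nat.beq_eq] at ha
  rcases h with h | h <;> cases h <;>
    · have e' := congrArg (fun c : Fin D.n => (c : ℕ)) e
      rw [← vec_code v, el_apply, pnt_val (by norm_num), pnt_val (by norm_num)] at e'
      first
        | exact (ha _ (code_lt v)).1 e'
        | exact (ha _ (code_lt v)).2 e'

theorem line_ne {r : ℕ} (hr : r < 22) : L (lineAt r) ≠ 0 := by
  have : ∀ r < 22, L (lineAt r) ≠ 0 := by decide +kernel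
  exact this r hr

theorem apply_comm {c : G0} {v : V} (hc : Commute c (el v)) (y : Fin D.n) : c.1 ((el v).1 y) = (el v).1 (c.1 y) := by
  rw [← Equiv.Perm.mul_apply, ← Subgroup.coe_mul, hc.eq, Subgroup.coe_mul, Equiv.Perm.mul_apply]

theorem el_apply_add (v w : V) (y : Fin D.n) : (el (v + w)).1 y = (el v).1 ((el w).1 y) := by
  rw [el_add, Subgroup.coe_mul, Equiv.Perm.mul_apply]

theorem el_apply_zero (y : Fin D.n) : (el 0).1 y = y := by rw [el_zero]; rfl

/-- an element of the centraliser permutes the orbit pair of a line -/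
theorem line_orbit {c : G0} (hc : ∀ v, Commute c (el v)) {r : ℕ} (hr : r < 22) :
    ∃ r', r' < 22 ∧ lineAt r' = lineAt r ∧ ∃ v, (el v).1 (pnt r') = c.1 (pnt r) := by
  obtain ⟨r', hr', w, hw⟩ := exists_rep (c.1 (pnt r))
  refine ⟨r', hr', ?_, w, hw⟩
  have hfix : (el (L (lineAt r))).1 (c.1 (pnt r)) = c.1 (pnt r) := by rw [← apply_comm (hc _), L_fix hr]
  have hlines : ∀ a < 22, ∀ b < 22, (L (lineAt b) = L (lineAt a) ∨ L (lineAt b) = -L (lineAt a)) →
      lineAt a = lineAt b := by decide +kernel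
  rcases stab_any hfix hr' hw with h | h | h
  · exact absurd h (line_ne hr)
  · exact hlines r' hr' r hr (Or.inl h)
  · exact hlines r' hr' r hr (Or.inr h)

theorem odd_cent (hI : InvHyp) {c : G0} (hc : ∀ v, Commute c (el v)) : Odd (orderOf c) := by
  rw [Nat.odd_iff]
  by_contra h2
  have hdvd : 2 ∣ orderOf c := by omega
  set t := c ^ (orderOf c / 2) with ht
  have hpos : 0 < orderOf c := orderOf_pos c
  have ho : orderOf t = 2 := orderOf_pow_orderOf_div hpos.ne' hdvd
  have ht2 : t * t = 1 := by rw [← pow_two, ← ho]; exact pow_orderOf_eq_one t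
  have ht1 : t ≠ 1 := fun e => by rw [e, orderOf_one] at ho; omega
  refine (hI t ht2 ht1).1 ?_
  rw [← card_A]
  refine Subgroup.card_dvd_of_le fun a ha => ?_
  obtain ⟨v, rfl⟩ := exists_el ha
  exact Subgroup.mem_centralizer_singleton_iff.2 ((hc v).symm.pow_right _).eq

/-- an element of the centraliser fixes each of the two orbits of a pair -/
theorem no_swap (hI : InvHyp) {c : G0} (hc : ∀ v, Commute c (el v)) {r r' : ℕ}
    (hp : (r, r') = (6, 13) ∨ (r, r') = (0, 18)) : ∃ v, (el v).1 (pnt r) = c.1 (pnt r) := by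
  have hr : r < 22 ∧ r' < 22 ∧ lineAt r' = lineAt r ∧ ∀ s < 22, lineAt s = lineAt r → s = r ∨ s = r' := by
    obtain ⟨h9, h0, e6, e13, e0, e18⟩ := orbit_pairs
    rcases hp with h | h <;> cases h
    · exact ⟨by norm_num, by norm_num, e13.trans e6.symm, fun s hs e => h9 s hs (e.trans e6)⟩
    · exact ⟨by norm_num, by norm_num, e18.trans e0.symm, fun s hs e => h0 s hs (e.trans e0)⟩
  obtain ⟨hr1, hr2, he, hcl⟩ := hr
  obtain ⟨s, hs, hse, v, hv⟩ := line_orbit hc hr1
  rcases hcl s hs hse with rfl | rfl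
  · exact ⟨v, hv⟩
  exfalso
  -- the image of the other representative lies in the first orbit
  obtain ⟨u, hu⟩ : ∃ u, (el u).1 (pnt r) = c.1 (pnt s) := by
    obtain ⟨s', hs', hse', u, hu⟩ := line_orbit hc hs
    rcases hcl s' hs' (hse'.trans hse) with e | e
    · exact ⟨u, by rw [← e]; exact hu⟩
    rw [e] at hu
    have hback : c.1 (pnt r) = c.1 ((el (v - u)).1 (pnt s)) := by
      rw [apply_comm (hc _), ← hu, ← el_apply_add, sub_add_cancel, hv]
    refine absurd ?_ (apart hp (u - v))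
    conv_lhs => rw [c.1.injective hback]
    rw [← el_apply_add, sub_add_sub_cancel, sub_self, el_apply_zero]
  have key : ∀ k : ℕ, (Even k → ∃ w, (el w).1 (pnt r) = (c ^ k).1 (pnt r)) ∧
      (Odd k → ∃ w, (el w).1 (pnt s) = (c ^ k).1 (pnt r)) := by
    intro k
    induction k with
    | zero => exact ⟨fun _ => ⟨0, by rw [el_apply_zero, pow_zero]; rfl⟩, fun h => absurd h (by simp)⟩
    | succ k ih =>
      constructor
      · intro hk
        rw [Nat.even_add_one, Nat.not_even_iff_odd] at hk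
        obtain ⟨w, hw⟩ := ih.2 hk
        refine ⟨w + u, ?_⟩
        rw [el_apply_add, hu, pow_succ', Subgroup.coe_mul, Equiv.Perm.mul_apply, ← hw, apply_comm (hc w)]
      · intro hk
        rw [Nat.odd_add_one, Nat.not_odd_iff_even] at hk
        obtain ⟨w, hw⟩ := ih.1 hk
        refine ⟨w + v, ?_⟩
        rw [el_apply_add, hv, pow_succ', Subgroup.coe_mul, Equiv.Perm.mul_apply, ← hw, apply_comm (hc w)]
  obtain ⟨w, hw⟩ := (key _).2 (odd_cent hI hc)
  rw [pow_orderOf_eq_one, OneMemClass.coe_one, Equiv.Perm.one_apply] at hw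
  refine apart hp (-w) ?_
  nth_rewrite 1 [← hw]
  rw [← el_apply_add, neg_add_cancel, el_apply_zero]

theorem fix_orbit {c : G0} (hc : ∀ v, Commute c (el v)) {y : Fin D.n} (h : c.1 y = y) (n : ℕ) {q : Fin D.n}
    (hq : (q : ℕ) = apN n y) : c.1 q = q := by
  rw [show q = (el (vec n)).1 y from Fin.ext (hq.trans (el_apply n y).symm), apply_comm (hc _), h]

theorem probe_row (w : List ℕ) : ((gperm w z0 : Fin D.n) : ℕ) = D.trace 0 w := gperm_apply w z0

theorem rowBit_fixed {c : G0} {w : List ℕ} (h : c.1 (gperm w z0) = gperm w z0) (y : Fin D.n) :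
    rowBit w (c.1 y : Fin D.n) = rowBit w y := by
  have := adj_map_iff c.2 (gperm w z0) y
  rw [h, adj_word, adj_word] at this
  exact Bool.eq_iff_iff.2 this

/-- The group is self-centralising. -/
theorem cent_mem (hI : InvHyp) {c : G0} (hc : ∀ v, Commute c (el v)) : c ∈ A := by
  obtain ⟨v, hv⟩ := no_swap hI hc (Or.inr rfl : ((0, 18) : ℕ × ℕ) = (6, 13) ∨ ((0, 18) : ℕ × ℕ) = (0, 18))
  set c' := el (-v) * c with hc'
  have hc'c : ∀ w, Commute c' (el w) := fun w => (el_comm _ w).mul_left (hc w)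
  have h0 : c'.1 (pnt 0) = pnt 0 := by
    rw [hc', Subgroup.coe_mul, Equiv.Perm.mul_apply, ← hv, ← el_apply_add, neg_add_cancel, el_apply_zero]
  obtain ⟨u, hu⟩ := no_swap hI hc'c (Or.inl rfl : ((6, 13) : ℕ × ℕ) = (6, 13) ∨ ((6, 13) : ℕ × ℕ) = (0, 18))
  have hfixA : ∀ e ∈ Data.probesA, c'.1 (gperm e.1 z0) = gperm e.1 z0 := fun e he => by
    have h := probesA_ok
    simp only [List.all_eq_true, Bool.and_eq_true, Nat.beq_eq] at h
    exact fix_orbit hc'c h0 e.2 (by rw [probe_row, (h e he).2, pnt_val (by norm_num)])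
  have hcand : (el u).1 (pnt 6) = pnt 6 ∨ (el u).1 (pnt 6) = (el (L 0)).1 (pnt 6) ∨
      (el u).1 (pnt 6) = (el (-L 0)).1 (pnt 6) := by
    have h6 : ((pnt 6 : Fin D.n) : ℕ) = repN 6 := pnt_val (by norm_num)
    have hs : sigA (apN (code u) (repN 6)) = sigA (repN 6) := by
      rw [← h6, ← el_apply, vec_code, hu]
      exact List.map_congr_left fun e he => rowBit_fixed (hfixA e he) _
    have h := move_ok
    simp only [List.all_eq_true, List.mem_range, Bool.or_eq_true, Bool.not_eq_true', Bool.eq_false_iff, ne_eq,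
      beq_iff_eq, Nat.beq_eq] at h
    rcases h _ (code_lt u) with ((h1 | h1) | h1) | h1
    · exact absurd hs h1
    · refine Or.inl (Fin.ext ?_)
      rw [← vec_code u, el_apply, h6, h1]
    · refine Or.inr (Or.inl (Fin.ext ?_))
      rw [← vec_code u, el_apply, L, el_apply, h6, h1]
    · refine Or.inr (Or.inr (Fin.ext ?_))
      rw [← vec_code u, el_apply, L, ← vec_negN, el_apply, h6, h1]
  obtain ⟨j, hj0, hj6⟩ : ∃ j, (el j).1 (pnt 0) = pnt 0 ∧ (el u).1 (pnt 6) = (el j).1 (pnt 6) := by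
    have hl : (el (L 0)).1 (pnt 0) = pnt 0 := by
      have := L_fix (r := 0) (by norm_num)
      rwa [orbit_pairs.2.2.2.2.1] at this
    rcases hcand with h | h | h
    · exact ⟨0, el_apply_zero _, by rw [h, el_apply_zero]⟩
    · exact ⟨_, hl, h⟩
    · refine ⟨_, ?_, h⟩
      nth_rewrite 1 [← hl]
      rw [← el_apply_add, neg_add_cancel, el_apply_zero]
  set d := el (-j) * c' with hd
  have hdc : ∀ w, Commute d (el w) := fun w => (el_comm _ w).mul_left (hc'c w)
  have hd0 : d.1 (pnt 0) = pnt 0 := by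
    rw [hd, Subgroup.coe_mul, Equiv.Perm.mul_apply, h0]
    nth_rewrite 1 [← hj0]
    rw [← el_apply_add, neg_add_cancel, el_apply_zero]
  have hd6 : d.1 (pnt 6) = pnt 6 := by
    rw [hd, Subgroup.coe_mul, Equiv.Perm.mul_apply, ← hu, hj6, ← el_apply_add, neg_add_cancel, el_apply_zero]
  have hfixB : ∀ e ∈ Data.probesB, d.1 (gperm e.1 z0) = gperm e.1 z0 := fun e he => by
    have h := probesB_ok
    simp only [List.all_eq_true, Bool.and_eq_true, Nat.beq_eq] at h
    obtain ⟨w, n, b⟩ := e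
    cases b
    · exact fix_orbit hdc hd0 n (by rw [probe_row, pnt_val (by norm_num)]; exact (h _ he).2)
    · exact fix_orbit hdc hd6 n (by rw [probe_row, pnt_val (by norm_num)]; exact (h _ he).2)
  have hd1 : d = 1 := by
    refine Subtype.ext (Equiv.ext fun y => sigB_inj ?_)
    rw [sigB, sigB]
    exact List.foldl_ext _ _ 0 fun r e he => by rw [rowBit_fixed (hfixB e he)]; rfl
  have : c = el (v + j) := by
    have e : el (-j) * (el (-v) * c) = 1 := hd1
    rw [el_neg, el_neg, inv_mul_eq_one, eq_inv_mul_iff_mul_eq, ← el_add] at e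
    exact e.symm
  rw [this]
  exact el_mem _

theorem centralizer_eq (hI : InvHyp) : Subgroup.centralizer (A : Set G0) = A := by
  refine le_antisymm (fun c hc => cent_mem hI fun v => (hc _ (el_mem v)).symm) fun a ha b hb => ?_
  obtain ⟨v, rfl⟩ := exists_el ha
  obtain ⟨w, rfl⟩ := exists_el hb
  exact (el_comm w v).eq

end CfsgLib.Recog.SuzEleven
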