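import Cfsg.Agent.Lib.Recog.SuzEleven.Data
import Cfsg.Agent.Lib.Recog.SuzRankThree.AutBound

/-!
An elementary abelian group of order 243 in the model of Suz: its elements, its orbits on the rows
(owner: helper22).
-/

set_option autoImplicit false
set_option maxRecDepth 100000
set_option Elab.async false

namespace CfsgLib.Recog.SuzEleven

open CfsgLib.ThreeTrans.CosetIndex CfsgLib.Recog.SuzRankThree

/-- a ternary digit -/
def dg (n k : ℕ) : ℕ := n / 3 ^ k % 3

/-- the code of five digits -/
def mk5 (f : ℕ → ℕ) : ℕ := f 0 % 3 + 3 * (f 1 % 3) + 9 * (f 2 % 3) + 27 * (f 3 % 3) + 81 * (f 4 % 3)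

/-- the code of the opposite vector -/
def negN (n : ℕ) : ℕ := mk5 fun k => 2 * dg n k

/-- a combination of rows -/
def comb (rows : List ℕ) (n : ℕ) : ℕ :=
  mk5 fun j => dg n 0 * dg (rows.getD 0 0) j + dg n 1 * dg (rows.getD 1 0) j + dg n 2 * dg (rows.getD 2 0) j +
    dg n 3 * dg (rows.getD 3 0) j + dg n 4 * dg (rows.getD 4 0) j

/-- the words of the generators -/
def wordA (k : ℕ) : List ℕ := Data.wA.getD k []

/-- a generator on the rows -/
noncomputable def tb (k y : ℕ) : ℕ := at16 (Data.tabA.getD k 0) y

/-- the check of a part of a table -/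
noncomputable def tabOK (k lo : ℕ) : Bool :=
  (List.range 297).all fun y => Nat.beq (tb k (lo + y)) (D.trace (lo + y) (wordA k))

theorem tab_ok0_0 : tabOK 0 0 = true := by decide +kernel

theorem tab_ok0_1 : tabOK 0 297 = true := by decide +kernel

theorem tab_ok0_2 : tabOK 0 594 = true := by decide +kernel

theorem tab_ok0_3 : tabOK 0 891 = true := by decide +kernel

theorem tab_ok0_4 : tabOK 0 1188 = true := by decide +kernel

theorem tab_ok0_5 : tabOK 0 1485 = true := by decide +kernel

theorem tab_ok1_0 : tabOK 1 0 = true := by decide +kernel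

theorem tab_ok1_1 : tabOK 1 297 = true := by decide +kernel

theorem tab_ok1_2 : tabOK 1 594 = true := by decide +kernel

theorem tab_ok1_3 : tabOK 1 891 = true := by decide +kernel

theorem tab_ok1_4 : tabOK 1 1188 = true := by decide +kernel

theorem tab_ok1_5 : tabOK 1 1485 = true := by decide +kernel

theorem tab_ok2_0 : tabOK 2 0 = true := by decide +kernel

theorem tab_ok2_1 : tabOK 2 297 = true := by decide +kernel

theorem tab_ok2_2 : tabOK 2 594 = true := by decide +kernel

theorem tab_ok2_3 : tabOK 2 891 = true := by decide +kernel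

theorem tab_ok2_4 : tabOK 2 1188 = true := by decide +kernel

theorem tab_ok2_5 : tabOK 2 1485 = true := by decide +kernel

theorem tab_ok3_0 : tabOK 3 0 = true := by decide +kernel

theorem tab_ok3_1 : tabOK 3 297 = true := by decide +kernel

theorem tab_ok3_2 : tabOK 3 594 = true := by decide +kernel

theorem tab_ok3_3 : tabOK 3 891 = true := by decide +kernel

theorem tab_ok3_4 : tabOK 3 1188 = true := by decide +kernel

theorem tab_ok3_5 : tabOK 3 1485 = true := by decide +kernel

theorem tab_ok4_0 : tabOK 4 0 = true := by decide +kernel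

theorem tab_ok4_1 : tabOK 4 297 = true := by decide +kernel

theorem tab_ok4_2 : tabOK 4 594 = true := by decide +kernel

theorem tab_ok4_3 : tabOK 4 891 = true := by decide +kernel

theorem tab_ok4_4 : tabOK 4 1188 = true := by decide +kernel

theorem tab_ok4_5 : tabOK 4 1485 = true := by decide +kernel

theorem tab_ok : ((List.range 5).all fun k => (List.range 1782).all fun y =>
    Nat.beq (tb k y) (D.trace y (wordA k))) = true := by
  simp only [List.all_eq_true, List.mem_range, Nat.beq_eq]
  intro k hk y hy
  have h : ∀ lo, tabOK k lo = true → lo ≤ y → y < lo + 297 → tb k y = D.trace y (wordA k) := by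
    intro lo h h1 h2
    simp only [tabOK, List.all_eq_true, List.mem_range, Nat.beq_eq] at h
    have := h (y - lo) (by omega)
    rwa [Nat.add_sub_cancel' h1] at this
  obtain ⟨j, hj, hj1, hj2⟩ : ∃ j < 6, 297 * j ≤ y ∧ y < 297 * j + 297 := ⟨y / 297, by omega, by omega, by omega⟩
  refine h (297 * j) ?_ hj1 hj2
  interval_cases k <;> interval_cases j
  · exact tab_ok0_0
  · exact tab_ok0_1
  · exact tab_ok0_2
  · exact tab_ok0_3
  · exact tab_ok0_4
  · exact tab_ok0_5
  · exact tab_ok1_0
  · exact tab_ok1_1
  · exact tab_ok1_2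
  · exact tab_ok1_3
  · exact tab_ok1_4
  · exact tab_ok1_5
  · exact tab_ok2_0
  · exact tab_ok2_1
  · exact tab_ok2_2
  · exact tab_ok2_3
  · exact tab_ok2_4
  · exact tab_ok2_5
  · exact tab_ok3_0
  · exact tab_ok3_1
  · exact tab_ok3_2
  · exact tab_ok3_3
  · exact tab_ok3_4
  · exact tab_ok3_5
  · exact tab_ok4_0
  · exact tab_ok4_1
  · exact tab_ok4_2
  · exact tab_ok4_3
  · exact tab_ok4_4
  · exact tab_ok4_5

theorem rel_ok : ((List.range 5).all fun i => (key (wordA i ++ (wordA i ++ wordA i)) == key []) &&
    (List.range 5).all fun j => key (wordA i ++ wordA j) == key (wordA j ++ wordA i)) = true := by decide +kernel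

/-- repeating a generator -/
noncomputable def rep (k d y : ℕ) : ℕ :=
  Nat.rec (motive := fun _ => ℕ) y (fun _ r => tb k r) d

/-- an element on the rows -/
noncomputable def apN (n y : ℕ) : ℕ :=
  rep 0 (dg n 0) (rep 1 (dg n 1) (rep 2 (dg n 2) (rep 3 (dg n 3) (rep 4 (dg n 4) y))))

/-- the code of a line -/
def lineN (i : ℕ) : ℕ := Data.lines.getD i 0

/-- a representative -/
def repN (r : ℕ) : ℕ := Data.reps.getD r 0

/-- its line -/
def lineAt (r : ℕ) : ℕ := Data.lineOf.getD r 0

theorem reps_ok : ((List.range 22).all fun r => Nat.blt (repN r) 1782 && Nat.blt (lineAt r) 11 &&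
    (Nat.beq (apN (lineN (lineAt r)) (repN r)) (repN r)) &&
    (List.range 243).all fun n => !(Nat.beq (apN n (repN r)) (repN r)) || Nat.beq n 0 ||
      Nat.beq n (lineN (lineAt r)) || Nat.beq n (negN (lineN (lineAt r)))) = true := by decide +kernel

theorem cover_ok : ((List.range 1782).all fun y =>
    Nat.blt (at16 Data.cover y % 32) 22 && Nat.blt (at16 Data.cover y / 32) 243 &&
      Nat.beq (apN (at16 Data.cover y / 32) (repN (at16 Data.cover y % 32))) y) = true := by decide +kernel

end CfsgLib.Recog.SuzEleven
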