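import Cfsg.Agent.Lib.Recog.SuzEleven.NormChecks
import Cfsg.Agent.Lib.Sporadic.SporMathieu

/-!
Groups of permutations of eleven points generated like M11 (owner: helper22).
-/

set_option autoImplicit false
set_option maxRecDepth 100000
set_option Elab.async false

namespace CfsgLib.Recog.SuzEleven

open CfsgLib.Sporadic MulAction
open scoped Pointwise

/-- Containing permutations which act like the two generators. -/
def HasGens (H : Subgroup (Equiv.Perm (Fin 11))) : Prop :=
  ∀ g < 2, ∃ σ ∈ H, ∀ i : Fin 11, ((σ i : Fin 11) : ℕ) = sgN g i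

theorem exists_word {H : Subgroup (Equiv.Perm (Fin 11))} (hH : HasGens H) :
    ∀ w : List ℕ, (∀ g ∈ w, g < 2) → ∃ σ ∈ H, ∀ i : Fin 11, ((σ i : Fin 11) : ℕ) = runS w i
  | [], _ => ⟨1, one_mem _, fun _ => rfl⟩
  | g :: w, h => by
    obtain ⟨τ, hτ, e⟩ := exists_word hH w fun x hx => h x (List.mem_cons_of_mem _ hx)
    obtain ⟨σ, hσ, e'⟩ := hH g (h g List.mem_cons_self)
    refine ⟨τ * σ, mul_mem hτ hσ, fun i => ?_⟩
    rw [Equiv.Perm.mul_apply, e, e']
    rfl

theorem exists_step {H : Subgroup (Equiv.Perm (Fin 11))} (hH : HasGens H) {k : Fin 11} (hk : (k : ℕ) < 4)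
    {t : Fin 11} (ht : k ≤ t) : ∃ σ ∈ H, σ k = t ∧ ∀ j < k, σ j = j := by
  have h := chain_ok
  simp only [List.all_eq_true, List.mem_range, Bool.or_eq_true, Bool.and_eq_true, Nat.blt_eq, Nat.beq_eq] at h
  rcases h k hk t t.2 with h | ⟨⟨hw, hk'⟩, hj⟩
  · exact absurd ht (not_le.2 (Fin.lt_def.2 h))
  obtain ⟨σ, hσ, e⟩ := exists_word hH _ hw
  exact ⟨σ, hσ, Fin.ext ((e k).trans hk'), fun j hj' => Fin.ext ((e j).trans (hj j hj'))⟩

theorem exists_four {H : Subgroup (Equiv.Perm (Fin 11))} (hH : HasGens H) (t : Fin 4 ↪ Fin 11) :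
    ∃ σ ∈ H, ∀ i : Fin 4, σ (Fin.castLE (by norm_num) i) = t i := by
  have key : ∀ n : ℕ, n ≤ 4 → ∃ σ ∈ H, ∀ i : Fin 4, (i : ℕ) < n → σ (Fin.castLE (by norm_num) i) = t i := by
    intro n
    induction n with
    | zero => exact fun _ => ⟨1, one_mem _, fun i hi => absurd hi (Nat.not_lt_zero _)⟩
    | succ n ih =>
      intro hn
      obtain ⟨σ, hσ, e⟩ := ih (by omega)
      set k : Fin 4 := ⟨n, by omega⟩ with hk
      have hge : Fin.castLE (by norm_num) k ≤ σ⁻¹ (t k) := by
        by_contra hlt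
        rw [not_le] at hlt
        have hj : ((σ⁻¹ (t k) : Fin 11) : ℕ) < n := hlt
        have := e ⟨(σ⁻¹ (t k) : Fin 11), by omega⟩ hj
        simp only [Fin.castLE_mk, Fin.eta] at this
        rw [show σ (σ⁻¹ (t k)) = t k from σ.apply_symm_apply _] at this
        have h2 := congrArg Fin.val (t.injective this)
        have hkn : (k : ℕ) = n := rfl
        simp only [] at h2
        omega
      obtain ⟨τ, hτ, e1, e2⟩ := exists_step hH (k := Fin.castLE (by norm_num) k) k.2 hge
      refine ⟨σ * τ, mul_mem hσ hτ, fun i hi => ?_⟩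
      rw [Equiv.Perm.mul_apply]
      rcases Nat.lt_succ_iff_lt_or_eq.1 hi with hi | hi
      · rw [e2 _ hi, e i hi]
      · obtain rfl : i = k := Fin.ext hi
        rw [e1]; exact σ.apply_symm_apply _
  obtain ⟨σ, hσ, e⟩ := key 4 le_rfl
  exact ⟨σ, hσ, fun i => e i i.2⟩

theorem card_tuples : Nat.card (Fin 4 ↪ Fin 11) = 7920 := by
  rw [Nat.card_eq_fintype_card, Fintype.card_embedding_eq]
  simp [Nat.descFactorial]

/-- the images of four points -/
def tuple (σ : Equiv.Perm (Fin 11)) : Fin 4 ↪ Fin 11 :=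
  (Fin.castLEEmb (by norm_num)).trans σ.toEmbedding

theorem card_ge {H : Subgroup (Equiv.Perm (Fin 11))} (hH : HasGens H) : 7920 ≤ Nat.card H := by
  rw [← card_tuples]
  refine Nat.card_le_card_of_surjective (fun σ : H => tuple σ.1) fun t => ?_
  obtain ⟨σ, hσ, e⟩ := exists_four hH t
  exact ⟨⟨σ, hσ⟩, DFunLike.ext _ _ e⟩

theorem card_le {H : Subgroup (Equiv.Perm (Fin 11))}
    (h4 : ∀ σ ∈ H, (∀ i : Fin 11, (i : ℕ) < 4 → σ i = i) → σ = 1) : Nat.card H ≤ 7920 := by
  rw [← card_tuples]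
  refine Nat.card_le_card_of_injective (fun σ : H => tuple σ.1) fun σ τ e => ?_
  have h := h4 (τ.1⁻¹ * σ.1) (mul_mem (inv_mem τ.2) σ.2) fun i hi => ?_
  · exact (Subtype.ext (inv_mul_eq_one.1 h)).symm
  have := DFunLike.congr_fun e (⟨i, hi⟩ : Fin 4)
  rw [Equiv.Perm.mul_apply, Equiv.Perm.inv_eq_iff_eq]
  exact this

/-- The permutations which, with everything generated by the two generators, fix the four points trivially. -/
theorem unique_group {H K : Subgroup (Equiv.Perm (Fin 11))} (hH : HasGens H) (hK : HasGens K)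
    (hH4 : Nat.card H ≤ 7920) (hK4 : Nat.card K ≤ 7920) : H = K := by
  have hI : HasGens (H ⊓ K) := fun g hg => by
    obtain ⟨σ, hσ, e⟩ := hH g hg
    obtain ⟨τ, hτ, e'⟩ := hK g hg
    obtain rfl : σ = τ := Equiv.ext fun i => Fin.ext ((e i).trans (e' i).symm)
    exact ⟨σ, ⟨hσ, hτ⟩, e⟩
  have h := card_ge hI
  exact (Subgroup.eq_of_le_of_card_ge inf_le_left (hH4.trans h)).symm.trans
    (Subgroup.eq_of_le_of_card_ge inf_le_right (hK4.trans h))

/-! ### The Mathieu group -/

/-- the eleven points -/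
def ptM (i : Fin 11) : Cfsg.GolayPt := pt (Data.points.getD i 0)

theorem points_facts : (∀ i : Fin 11, ptM i ∈ Cfsg.Spor.squareDodecad ∧ ptM i ≠ (some 0 : Cfsg.GolayPt)) ∧
    (∀ i j : Fin 11, ptM i = ptM j → i = j) ∧
    ∀ x ∈ Cfsg.Spor.squareDodecad, x ≠ (some 0 : Cfsg.GolayPt) → ∃ i : Fin 11, ptM i = x := by decide +kernel

theorem exists_img (g : Cfsg.Spor.M11) (i : Fin 11) : ∃ j, ptM j = (g : Equiv.Perm Cfsg.GolayPt) (ptM i) := by
  obtain ⟨h1, h2, h3⟩ := points_facts
  have hd : (g : Equiv.Perm Cfsg.GolayPt) • Cfsg.Spor.squareDodecad = Cfsg.Spor.squareDodecad := g.2.1.2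
  have h0 : (g : Equiv.Perm Cfsg.GolayPt) (some 0) = some 0 := g.2.2
  refine h3 _ ?_ fun e => (h1 i).2 ((g : Equiv.Perm Cfsg.GolayPt).injective (e.trans h0.symm))
  rw [← hd]
  exact Finset.smul_mem_smul_finset (h1 i).1

/-- the image of a point -/
noncomputable def imM (g : Cfsg.Spor.M11) (i : Fin 11) : Fin 11 := (exists_img g i).choose

theorem imM_spec (g : Cfsg.Spor.M11) (i : Fin 11) : ptM (imM g i) = (g : Equiv.Perm Cfsg.GolayPt) (ptM i) :=
  (exists_img g i).choose_spec

theorem imM_mul (g h : Cfsg.Spor.M11) (i : Fin 11) : imM (g * h) i = imM g (imM h i) :=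
  points_facts.2.1 _ _ (by rw [imM_spec, imM_spec, imM_spec, Subgroup.coe_mul, Equiv.Perm.mul_apply])

theorem imM_one (i : Fin 11) : imM 1 i = i := points_facts.2.1 _ _ (by rw [imM_spec]; rfl)

/-- M11 on eleven points -/
noncomputable def resM : Cfsg.Spor.M11 →* Equiv.Perm (Fin 11) :=
  MonoidHom.mk' (fun g => ⟨imM g, imM g⁻¹, fun i => by rw [← imM_mul, inv_mul_cancel, imM_one],
    fun i => by rw [← imM_mul, mul_inv_cancel, imM_one]⟩) fun g h => Equiv.ext fun i => imM_mul g h i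

theorem gens_ok : stabGens Data.gensM stdD [0] = true := by decide +kernel

theorem gens_sig : ((List.range 2).all fun g => (List.range 11).all fun i =>
    Nat.beq (pget (Data.gensM.getD g 0) (Data.points.getD i 0)) (Data.points.getD (sgN g i) 0)) = true := by
  decide +kernel

theorem hasGens_res : HasGens resM.range := by
  intro g hg
  have hmem : Data.gensM.getD g 0 ∈ Data.gensM := by interval_cases g <;> decide
  obtain ⟨m, hm, hrep, hfix⟩ := stabGens_in gens_ok _ hmem
  have h0 : m • (some 0 : Cfsg.GolayPt) = some 0 := hfix _ (by decide)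
  rw [← squareDodecad_eq] at hm
  let u : Cfsg.Spor.M11 := sporM11Equiv ⟨m, hm, h0⟩
  refine ⟨resM u, ⟨u, rfl⟩, fun i => ?_⟩
  have hs := sig_ok
  simp only [List.all_eq_true, List.mem_range, Bool.and_eq_true, Nat.blt_eq] at hs
  have hlt := (hs g hg i i.2).1
  suffices resM u i = ⟨sgN g i, hlt⟩ by rw [this]
  refine points_facts.2.1 _ _ ?_
  show ptM (imM u i) = _
  rw [imM_spec]
  refine ix_injective ?_
  show ix ((m : Equiv.Perm Cfsg.GolayPt) (ptM i)) = _
  have hlt24 : ∀ j : Fin 11, Data.points.getD j 0 < 24 := by decide +kernel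
  rw [← hrep, ptM, ix_pt (hlt24 i), ptM, ix_pt (hlt24 ⟨_, hlt⟩)]
  have hq := gens_sig
  simp only [List.all_eq_true, List.mem_range, Nat.beq_eq] at hq
  exact hq g hg i i.2

theorem resM_injective : Function.Injective resM := by
  haveI := sporM11_isSimple
  rcases resM.normal_ker.eq_bot_or_eq_top with h | h
  · exact (MonoidHom.ker_eq_bot_iff _).1 h
  exfalso
  have h7 := card_ge hasGens_res
  rw [MonoidHom.ker_eq_top_iff.1 h] at h7
  simp at h7

theorem card_resM : Nat.card resM.range = 7920 := by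
  rw [← Nat.card_congr (MonoidHom.ofInjective resM_injective).toEquiv, card_sporM11]

end CfsgLib.Recog.SuzEleven
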