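import Cfsg.Agent.Lib.Recog.SuzEleven.Norm
import Cfsg.Agent.Lib.Recog.SuzEleven.MEleven
import Cfsg.Prelude.Def_Transfer

/-!
In the model of Suz: a self-centralising group of order 243 with normaliser quotient M11 (owner: helper22).
-/

set_option autoImplicit false
set_option maxRecDepth 100000
set_option Elab.async false

namespace CfsgLib.Recog.SuzEleven

open CfsgLib.ThreeTrans.CosetIndex CfsgLib.Recog.SuzRankThree

theorem hasGens_psi : HasGens psi.range := by
  intro g hg
  set w : G0 := ⟨gperm (wordN g), gperm_mem _⟩ with hw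
  have hc := conj_ok
  simp only [List.all_eq_true, List.mem_range, beq_iff_eq] at hc
  have hev : ∀ n, gperm (wordEl n) = (el (vec n)).1 := by
    have hrep : ∀ (u : List ℕ) (m : ℕ), gperm ((List.replicate m u).flatten) = gperm u ^ m := by
      intro u m
      induction m with
      | zero => rfl
      | succ m ih => rw [List.replicate_succ, List.flatten_cons, gperm_append, ih, pow_succ]
    intro n
    have hv : ∀ k : Fin 5, (vec n k).val = dg n k := fun k => by rw [vec, ZMod.val_natCast, dg, Nat.mod_mod]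
    simp only [wordEl, List.flatMap_cons, List.flatMap_nil, List.append_nil, gperm_append, hrep, el, fac, hv,
      Subgroup.coe_mul, SubgroupClass.coe_pow, mul_assoc]
    rfl
  have hconj : ∀ k : Fin 5, w * el (vec (3 ^ (k : ℕ))) * w⁻¹ = el (vec ((rowN g).getD k 0)) := by
    intro k
    have h := gperm_eq_of_key (hc g hg k k.2)
    rw [gperm_append, gperm_append, gperm_reverse, hev] at h
    refine Subtype.ext ?_
    rw [el_unit, Subgroup.coe_mul, Subgroup.coe_mul, InvMemClass.coe_inv]
    exact h
  -- conjugation on all elements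
  let f : V →+ V := AddMonoidHom.mk' (fun v => ∑ k : Fin 5, (v k).val • vec ((rowN g).getD k 0)) fun v u => by
    rw [← Finset.sum_add_distrib]
    refine Finset.sum_congr rfl fun k _ => ?_
    funext j
    simp only [Pi.add_apply, Pi.smul_apply]
    simp only [nsmul_eq_mul, ZMod.natCast_zmod_val, add_mul]
  have hall : ∀ v, w * el v * w⁻¹ = el (f v) := by
    let c : Multiplicative V →* G0 := (MulAut.conj w).toMonoidHom.comp hom
    let d : Multiplicative V →* G0 := hom.comp (AddMonoidHom.toMultiplicative f)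
    intro v
    have hgen : ∀ k : Fin 5, c (Multiplicative.ofAdd (vec (3 ^ (k : ℕ)))) = d (Multiplicative.ofAdd (vec (3 ^ (k : ℕ)))) := by
      intro k
      show w * el (vec (3 ^ (k : ℕ))) * w⁻¹ = el (f (vec (3 ^ (k : ℕ))))
      rw [hconj]
      refine congrArg el ?_
      show _ = ∑ j : Fin 5, (vec (3 ^ (k : ℕ)) j).val • vec ((rowN g).getD j 0)
      rw [Finset.sum_eq_single k]
      · rw [show (vec (3 ^ (k : ℕ)) k).val = 1 by fin_cases k <;> decide, one_smul]
      · intro j _ hj
        rw [show (vec (3 ^ (k : ℕ)) j).val = 0 by revert hj; revert j; fin_cases k <;> decide, zero_smul]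
      · exact fun h => absurd (Finset.mem_univ k) h
    have e : v = ∑ k : Fin 5, (v k).val • vec (3 ^ (k : ℕ)) := by
      funext j
      rw [Finset.sum_apply, Fin.sum_univ_five]
      fin_cases j <;> simp [vec, dg]
    show c (Multiplicative.ofAdd v) = d (Multiplicative.ofAdd v)
    rw [e, Fin.sum_univ_five]
    simp only [ofAdd_add, ofAdd_nsmul, map_mul, map_pow, hgen]
  have hwN : w ∈ NA := by
    refine mem_normalizer_of_map_le fun x hx => ?_
    obtain ⟨a, ha, rfl⟩ := hx
    obtain ⟨v, rfl⟩ := exists_el ha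
    show w * el v * w⁻¹ ∈ A
    rw [hall]
    exact el_mem _
  refine ⟨psi ⟨w, hwN⟩, ⟨_, rfl⟩, fun i => ?_⟩
  have hs := sig_ok
  simp only [List.all_eq_true, List.mem_range, Bool.and_eq_true, Bool.or_eq_true, Nat.blt_eq, Nat.beq_eq] at hs
  obtain ⟨hlt, hor⟩ := hs g hg i i.2
  have hsends : Sends w i ⟨sgN g i, hlt⟩ := by
    refine ⟨f (L i), ?_, hall _⟩
    have hfi : f (L i) = vec (comb (rowN g) (lineN i)) := by rw [vec_comb]; rfl
    rw [hfi]
    rcases hor with h | h <;> rw [h]
    · exact Or.inl rfl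
    · exact Or.inr (vec_negN _)
  rw [psi_apply, sig_eq (g := ⟨w, hwN⟩) hsends]
where
  mem_normalizer_of_map_le {X : Type} [Group X] [Finite X] {H : Subgroup X} {w : X}
      (h : H.map (MulAut.conj w).toMonoidHom ≤ H) : w ∈ Subgroup.normalizer (H : Set X) := by
    have e : H.map (MulAut.conj w).toMonoidHom = H := Subgroup.eq_of_le_of_card_ge h
      (le_of_eq (Subgroup.card_map_of_injective (MulAut.conj w).injective).symm)
    refine Subgroup.mem_normalizer_iff.2 fun x => ⟨fun hx => h ⟨x, hx, rfl⟩, fun hx => ?_⟩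
    rw [← e] at hx
    obtain ⟨y, hy, hyx⟩ := hx
    exact (MulAut.conj w).injective hyx ▸ hy

theorem exists_eleven : ∃ g : NA, ∀ i : Fin 11, ((psi g i : Fin 11) : ℕ) = runS Data.word11 i := by
  have h := eleven_ok
  simp only [Bool.and_eq_true, List.all_eq_true, Nat.blt_eq] at h
  obtain ⟨σ, ⟨g, rfl⟩, e⟩ := exists_word hasGens_psi _ h.1.1
  exact ⟨g, e⟩

theorem eleven_order : ∃ g : NA, orderOf (psi g) = 11 := by
  obtain ⟨g, e⟩ := exists_eleven
  haveI : Fact (Nat.Prime 11) := ⟨by norm_num⟩
  have h := eleven_ok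
  simp only [Bool.and_eq_true, List.all_eq_true, List.mem_range, Bool.not_eq_true', Bool.eq_false_iff, ne_eq,
    Nat.beq_eq] at h
  refine ⟨g, orderOf_eq_prime (Equiv.ext fun i => Fin.ext ?_) fun h1 => h.2 ?_⟩
  · have key : ∀ m : ℕ, (((psi g ^ m) i : Fin 11) : ℕ) = (List.range m).foldl (fun j _ => runS Data.word11 j) i := by
      intro m
      induction m with
      | zero => rfl
      | succ m ih => rw [pow_succ', Equiv.Perm.mul_apply, e, ih, List.range_succ, List.foldl_concat]
    rw [key]
    exact h.1.2 i i.2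
  · have := e 0
    rw [h1] at this
    exact this.symm

variable (hI : InvHyp)
include hI

theorem not_inverted {n : G0} (h : ∀ v, n * el v * n⁻¹ = el (-v)) : False := by
  have hinv : ∀ v, n * el v * n⁻¹ = (el v)⁻¹ := fun v => by rw [h, el_neg]
  have hsq : n * n ∈ A := cent_mem hI fun v => by
    show n * n * el v = el v * (n * n)
    calc n * n * el v = n * (n * el v * n⁻¹) * n⁻¹ * (n * n) := by group
      _ = el v * (n * n) := by rw [hinv, ← el_neg, hinv, el_neg, inv_inv]
  obtain ⟨a, ha⟩ := exists_el hsq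
  have h2 : a = 0 := by
    have e : n * el a * n⁻¹ = el a := by rw [ha]; group
    rw [h] at e
    have e2 := el_injective e
    funext j
    have := congrFun e2 j
    rw [Pi.neg_apply] at this
    show a j = 0
    generalize a j = x at this ⊢
    revert x; decide
  have hn2 : n * n = 1 := by rw [← ha, h2, el_zero]
  have hn1 : n ≠ 1 := fun e => by
    have := h (L 0)
    rw [e, one_mul, inv_one, mul_one] at this
    exact absurd (el_injective this) (by decide +kernel)
  obtain ⟨g, hg⟩ := eleven_order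
  obtain ⟨f, hf⟩ := exists_lin g.2
  have hninv : n⁻¹ = n := inv_eq_of_mul_eq_one_right hn2
  have hcomm : g.1 * n * g.1⁻¹ * n ∈ A := cent_mem hI fun v => by
    obtain ⟨u, hu⟩ := exists_el ((Subgroup.mem_normalizer_iff''.1 g.2 (el v)).1 (el_mem v))
    have hu' : el (f u) = el v := by rw [← hf, hu]; group
    show g.1 * n * g.1⁻¹ * n * el v = el v * (g.1 * n * g.1⁻¹ * n)
    calc g.1 * n * g.1⁻¹ * n * el v = g.1 * n * (g.1⁻¹ * (n * el v * n⁻¹) * g.1) * n⁻¹ * g.1⁻¹ * (g.1 * n * g.1⁻¹ * n) := by
          group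
      _ = g.1 * (n * (el u)⁻¹ * n⁻¹) * g.1⁻¹ * (g.1 * n * g.1⁻¹ * n) := by rw [hinv, hu]; group
      _ = el v * (g.1 * n * g.1⁻¹ * n) := by rw [← el_neg, hinv, el_neg, inv_inv, hf, hu']
  obtain ⟨b, hb⟩ := exists_el hcomm
  have hgn : g.1 * n * g.1⁻¹ = el b * n := by rw [hb, mul_assoc (g.1 * n * g.1⁻¹), hn2, mul_one]
  set c : NA := ⟨el b, A_le (el_mem b)⟩ * g with hcdef
  have hcn : Commute c.1 n := by
    have e : c.1 * n * c.1⁻¹ = n := by
      have hbbb : el b * el b * el b = 1 := by
        rw [← el_add, ← el_add, ← el_zero]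
        refine congrArg el ?_
        funext j
        simp only [Pi.add_apply, Pi.zero_apply]
        generalize b j = x
        revert x; decide
      have hbn : n * (el b)⁻¹ = el b * n := by
        calc n * (el b)⁻¹ = (n * (el b)⁻¹ * n⁻¹) * n := by group
          _ = el b * n := by rw [← el_neg, hinv, el_neg, inv_inv]
      calc c.1 * n * c.1⁻¹ = el b * (g.1 * n * g.1⁻¹) * (el b)⁻¹ := by rw [hcdef, Subgroup.coe_mul]; group
        _ = el b * el b * (n * (el b)⁻¹) := by rw [hgn]; group
        _ = el b * el b * el b * n := by rw [hbn]; group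
        _ = n := by rw [hbbb, one_mul]
    exact mul_inv_eq_iff_eq_mul.1 e
  refine (hI n hn2 hn1).2 ?_
  have hker : psi ⟨el b, A_le (el_mem b)⟩ = 1 := Equiv.ext fun i => sig_eq ⟨_, Or.inl rfl, by
    show el b * el (L i) * (el b)⁻¹ = el (L i)
    rw [(el_comm b (L i)).eq, mul_inv_cancel_right]⟩
  have h11 : 11 ∣ orderOf c := by
    rw [← hg, show psi g = psi c by rw [hcdef, map_mul, hker, one_mul]]
    exact orderOf_map_dvd psi c
  rw [← Subgroup.orderOf_coe] at h11
  refine h11.trans ?_
  rw [← Subgroup.orderOf_mk c.1 (Subgroup.mem_centralizer_singleton_iff.2 hcn.eq : c.1 ∈ Subgroup.centralizer ({n} : Set G0))]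
  exact orderOf_dvd_natCard _

theorem ker_psi (g : NA) : psi g = 1 ↔ g.1 ∈ A := by
  constructor
  · intro h
    rcases fix_four (g := g) fun i _ => by rw [h]; rfl with h' | h'
    · exact cent_mem hI fun v => mul_inv_eq_iff_eq_mul.1 (h' v)
    · exact (not_inverted hI h').elim
  · intro hg
    obtain ⟨b, hb⟩ := exists_el hg
    refine Equiv.ext fun i => sig_eq ⟨_, Or.inl rfl, ?_⟩
    rw [← hb, (el_comm b (L i)).eq, mul_inv_cancel_right]
    rfl

theorem range_psi : psi.range = resM.range := by
  refine unique_group hasGens_psi hasGens_res (card_le fun σ hσ h4 => ?_) card_resM.le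
  obtain ⟨g, rfl⟩ := hσ
  rcases fix_four (g := g) h4 with h | h
  · exact (ker_psi hI g).2 (cent_mem hI fun v => mul_inv_eq_iff_eq_mul.1 (h v))
  · exact (not_inverted hI h).elim

theorem quotient_m11 : Cfsg.Spor.IsoM11 (NA ⧸ A.subgroupOf NA) := by
  have hk : A.subgroupOf NA = psi.ker := by
    ext g
    rw [Subgroup.mem_subgroupOf, MonoidHom.mem_ker, ker_psi hI]
  exact ⟨((QuotientGroup.quotientMulEquivOfEq hk).trans (QuotientGroup.quotientKerEquivRange psi)).trans
    ((MulEquiv.subgroupCongr (range_psi hI)).trans (MonoidHom.ofInjective resM_injective).symm)⟩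

omit hI in
theorem elementary : Cfsg.IsElementaryAbelian 3 A := by
  refine ⟨⟨⟨fun a b => ?_⟩⟩, fun a ha => ?_⟩
  · obtain ⟨v, hv⟩ := exists_el a.2
    obtain ⟨w, hw⟩ := exists_el b.2
    refine Subtype.ext ?_
    show a.1 * b.1 = b.1 * a.1
    rw [← hv, ← hw]
    exact (el_comm v w).eq
  · obtain ⟨v, rfl⟩ := exists_el ha
    rw [pow_succ, pow_two, ← el_add, ← el_add, ← el_zero]
    refine congrArg el ?_
    funext j
    simp only [Pi.add_apply, Pi.zero_apply]
    generalize v j = x
    revert x; decide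

end CfsgLib.Recog.SuzEleven
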