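import Cfsg.Agent.Lib.Recog.SuzEleven.Checks

/-!
An elementary abelian group of order 243 in the model of Suz: its elements, its orbits on the rows
(owner: helper22).
-/

set_option autoImplicit false
set_option maxRecDepth 100000
set_option Elab.async false

namespace CfsgLib.Recog.SuzEleven

open CfsgLib.ThreeTrans.CosetIndex CfsgLib.Recog.SuzRankThree

/-- the vectors -/
abbrev V : Type := Fin 5 → ZMod 3

/-- the vector of a code -/
def vec (n : ℕ) : V := fun k => (dg n k : ZMod 3)

/-- the code of a vector -/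
def code (v : V) : ℕ := mk5 fun k => if h : k < 5 then (v ⟨k, h⟩).val else 0

theorem mk5_lt (f : ℕ → ℕ) : mk5 f < 243 := by unfold mk5; omega

theorem dg_mk5 (f : ℕ → ℕ) {j : ℕ} (hj : j < 5) : dg (mk5 f) j = f j % 3 := by
  unfold dg mk5
  interval_cases j <;> norm_num <;> omega

theorem vec_mk5 (f : ℕ → ℕ) (k : Fin 5) : vec (mk5 f) k = (f k : ZMod 3) := by
  rw [vec, dg_mk5 f k.2, ← ZMod.natCast_mod (f k) 3]

theorem code_lt (v : V) : code v < 243 := mk5_lt _

theorem vec_code (v : V) : vec (code v) = v := by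
  funext k
  rw [code, vec_mk5, dif_pos k.2, ZMod.natCast_val, ZMod.cast_id]

theorem vec_negN (n : ℕ) : vec (negN n) = -vec n := by
  funext k
  rw [negN, vec_mk5, Pi.neg_apply, vec, Nat.cast_mul, Nat.cast_ofNat]
  generalize (dg n k : ZMod 3) = a
  revert a; decide

theorem vec_comb (rows : List ℕ) (n : ℕ) :
    vec (comb rows n) = ∑ k : Fin 5, (vec n k).val • vec (rows.getD k 0) := by
  have hv : ∀ k : Fin 5, (vec n k).val = dg n k := fun k => by
    rw [vec, ZMod.val_natCast, dg, Nat.mod_mod]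
  funext j
  rw [comb, vec_mk5, Finset.sum_apply, Fin.sum_univ_five]
  simp only [hv, Pi.smul_apply, nsmul_eq_mul]
  simp only [vec]
  push_cast
  rfl

theorem vec_zero : vec 0 = 0 := by decide

/-! ### The generators -/

/-- a generator -/
noncomputable def ga (k : ℕ) : G0 := ⟨gperm (wordA k), gperm_mem _⟩

theorem ga_comm {i j : ℕ} (hi : i < 5) (hj : j < 5) : Commute (ga i) (ga j) := by
  have h := rel_ok
  simp only [List.all_eq_true, List.mem_range, Bool.and_eq_true, beq_iff_eq] at h
  have := gperm_eq_of_key ((h i hi).2 j hj)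
  rw [gperm_append, gperm_append] at this
  exact Subtype.ext this.symm

theorem ga_cube {i : ℕ} (hi : i < 5) : ga i ^ 3 = 1 := by
  have h := rel_ok
  simp only [List.all_eq_true, List.mem_range, Bool.and_eq_true, beq_iff_eq] at h
  have := gperm_eq_of_key (h i hi).1
  rw [gperm_append, gperm_append] at this
  refine Subtype.ext ?_
  rw [pow_succ, pow_two]
  exact this.trans rfl

/-- a factor -/
noncomputable def fac (k : Fin 5) (v : V) : G0 := ga k ^ (v k).val

theorem fac_add (k : Fin 5) (v w : V) : fac k (v + w) = fac k v * fac k w := by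
  rw [fac, fac, fac, Pi.add_apply, ZMod.val_add, ← pow_add]
  exact (pow_eq_pow_mod _ (ga_cube k.2)).symm

theorem fac_comm (i j : Fin 5) (v w : V) : Commute (fac i v) (fac j w) :=
  (ga_comm i.2 j.2).pow_pow _ _

/-- the element of a vector -/
noncomputable def el (v : V) : G0 := fac 0 v * (fac 1 v * (fac 2 v * (fac 3 v * fac 4 v)))

theorem el_add (v w : V) : el (v + w) = el v * el w := by
  have c := fun i j => fac_comm i j
  simp only [el, fac_add]
  rw [((c 3 4 w v)).mul_mul_mul_comm]
  rw [((c 2 3 w v).mul_right (c 2 4 w v)).mul_mul_mul_comm]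
  rw [((c 1 2 w v).mul_right ((c 1 3 w v).mul_right (c 1 4 w v))).mul_mul_mul_comm]
  rw [((c 0 1 w v).mul_right ((c 0 2 w v).mul_right ((c 0 3 w v).mul_right (c 0 4 w v)))).mul_mul_mul_comm]

theorem el_zero : el 0 = 1 := by simp [el, fac]

/-- the homomorphism of vectors -/
noncomputable def hom : Multiplicative V →* G0 where
  toFun v := el (Multiplicative.toAdd v)
  map_one' := el_zero
  map_mul' _ _ := el_add _ _

/-- the subgroup of order 243 -/
noncomputable def A : Subgroup G0 := hom.range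

theorem el_mem (v : V) : el v ∈ A := ⟨Multiplicative.ofAdd v, rfl⟩

theorem exists_el {a : G0} (ha : a ∈ A) : ∃ v, el v = a := by
  obtain ⟨v, rfl⟩ := ha
  exact ⟨_, rfl⟩

theorem el_neg (v : V) : el (-v) = (el v)⁻¹ :=
  eq_inv_of_mul_eq_one_left (by rw [← el_add, neg_add_cancel, el_zero])

theorem el_comm (v w : V) : Commute (el v) (el w) := by
  show el v * el w = el w * el v
  rw [← el_add, ← el_add, add_comm]

theorem el_unit (k : Fin 5) : el (vec (3 ^ (k : ℕ))) = ga k := by
  fin_cases k <;> simp [el, fac, vec, dg, ZMod.val_one]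

/-! ### The elements on the rows -/

theorem ga_apply {k : ℕ} (hk : k < 5) (c : Fin D.n) : (((ga k).1 c : Fin D.n) : ℕ) = tb k c := by
  have h := tab_ok
  simp only [List.all_eq_true, List.mem_range, Nat.beq_eq] at h
  rw [h k hk c c.2]
  exact gperm_apply _ c

theorem rep_apply {k : ℕ} (hk : k < 5) (c : Fin D.n) :
    ∀ d : ℕ, ((((ga k) ^ d).1 c : Fin D.n) : ℕ) = rep k d c
  | 0 => rfl
  | d + 1 => by
    rw [pow_succ', Subgroup.coe_mul, Equiv.Perm.mul_apply, ga_apply hk, rep_apply hk c d]
    rfl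

theorem el_apply (n : ℕ) (c : Fin D.n) : (((el (vec n)).1 c : Fin D.n) : ℕ) = apN n c := by
  have hv : ∀ k : Fin 5, (vec n k).val = dg n k := fun k => by
    rw [vec, ZMod.val_natCast, dg, Nat.mod_mod]
  simp only [el, fac, hv, Subgroup.coe_mul, Equiv.Perm.mul_apply]
  rw [rep_apply (Fin.is_lt _), rep_apply (Fin.is_lt _), rep_apply (Fin.is_lt _), rep_apply (Fin.is_lt _),
    rep_apply (Fin.is_lt _)]
  rfl

/-! ### The lines and the orbits -/

/-- a representative as a row -/
noncomputable def pnt (r : ℕ) : Fin D.n := ⟨repN r % D.n, Nat.mod_lt _ (by decide)⟩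

theorem pnt_val {r : ℕ} (hr : r < 22) : ((pnt r : Fin D.n) : ℕ) = repN r := by
  have h := reps_ok
  simp only [List.all_eq_true, List.mem_range, Bool.and_eq_true, Nat.blt_eq] at h
  exact Nat.mod_eq_of_lt (h r hr).1.1.1

theorem lineAt_lt {r : ℕ} (hr : r < 22) : lineAt r < 11 := by
  have h := reps_ok
  simp only [List.all_eq_true, List.mem_range, Bool.and_eq_true, Nat.blt_eq] at h
  exact (h r hr).1.1.2

/-- the vector of a line -/
def L (i : ℕ) : V := vec (lineN i)

theorem L_fix {r : ℕ} (hr : r < 22) : (el (L (lineAt r))).1 (pnt r) = pnt r := by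
  have h := reps_ok
  simp only [List.all_eq_true, List.mem_range, Bool.and_eq_true, Nat.blt_eq, Nat.beq_eq] at h
  refine Fin.ext ?_
  rw [L, el_apply, pnt_val hr]
  exact (h r hr).1.2

theorem stab_pnt {r : ℕ} (hr : r < 22) {v : V} (hv : (el v).1 (pnt r) = pnt r) :
    v = 0 ∨ v = L (lineAt r) ∨ v = -L (lineAt r) := by
  have h := reps_ok
  simp only [List.all_eq_true, List.mem_range, Bool.and_eq_true, Bool.or_eq_true, Nat.beq_eq,
    Bool.not_eq_true', Bool.eq_false_iff, ne_eq] at h
  have hv' := congrArg (fun c : Fin D.n => (c : ℕ)) hv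
  rw [← vec_code v, el_apply, pnt_val hr] at hv'
  rw [← vec_code v, L, ← vec_negN, ← vec_zero]
  rcases (h r hr).2 _ (code_lt v) with ((h1 | h1) | h1) | h1
  · exact absurd hv' h1
  · exact Or.inl (congrArg vec h1)
  · exact Or.inr (Or.inl (congrArg vec h1))
  · exact Or.inr (Or.inr (congrArg vec h1))

theorem exists_rep (c : Fin D.n) : ∃ r, r < 22 ∧ ∃ v, (el v).1 (pnt r) = c := by
  have h := cover_ok
  simp only [List.all_eq_true, List.mem_range, Bool.and_eq_true, Nat.blt_eq, Nat.beq_eq] at h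
  obtain ⟨⟨hr, -⟩, he⟩ := h c c.2
  refine ⟨_, hr, vec (at16 Data.cover c / 32), Fin.ext ?_⟩
  rw [el_apply, pnt_val hr]
  exact he

theorem stab_any {v : V} {c : Fin D.n} (hv : (el v).1 c = c) {r : ℕ} (hr : r < 22) {w : V}
    (hw : (el w).1 (pnt r) = c) : v = 0 ∨ v = L (lineAt r) ∨ v = -L (lineAt r) := by
  refine stab_pnt hr ((el w).1.injective ?_)
  rw [← Equiv.Perm.mul_apply, ← Subgroup.coe_mul, (el_comm w v).eq, Subgroup.coe_mul, Equiv.Perm.mul_apply, hw, hv]

theorem el_inj {v : V} (hv : el v = 1) : v = 0 := by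
  have h0 := stab_pnt (r := 0) (by norm_num) (v := v) (by rw [hv]; rfl)
  have h6 := stab_pnt (r := 6) (by norm_num) (v := v) (by rw [hv]; rfl)
  have : ∀ a ∈ [0, L (lineAt 0), -L (lineAt 0)], ∀ b ∈ [0, L (lineAt 6), -L (lineAt 6)], a = b → a = 0 := by
    decide +kernel
  exact this v (by simp [h0]) v (by simp [h6]) rfl

theorem el_injective : Function.Injective el := fun v w h => sub_eq_zero.1 (el_inj (by
  rw [sub_eq_add_neg, el_add, el_neg, h, mul_inv_cancel]))

theorem card_A : Nat.card A = 243 := by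
  rw [A, ← Nat.card_congr (MonoidHom.ofInjective (f := hom) fun v w h =>
    Multiplicative.toAdd.injective (el_injective h)).toEquiv, Nat.card_congr Multiplicative.toAdd,
    Nat.card_eq_fintype_card]
  simp

end CfsgLib.Recog.SuzEleven
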