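import Cfsg.Agent.Lib.Recog.SuzEleven.Checks

/-!
Checks for the normaliser and its action on the eleven lines (owner: helper22).
-/

set_option autoImplicit false
set_option maxRecDepth 100000
set_option Elab.async false

namespace CfsgLib.Recog.SuzEleven

open CfsgLib.ThreeTrans.CosetIndex CfsgLib.Recog.SuzRankThree

/-- a word for an element of the group -/
def wordEl (n : ℕ) : List ℕ :=
  [4, 3, 2, 1, 0].flatMap fun k => (List.replicate (dg n k) (wordA k)).flatten

/-- the word of an element of the normaliser -/
def wordN (g : ℕ) : List ℕ := Data.wN.getD g []

/-- the rows of its matrix -/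
def rowN (g : ℕ) : List ℕ := Data.rowsN.getD g []

/-- its action on the lines -/
def sgN (g i : ℕ) : ℕ := (Data.sigN.getD g []).getD i 0

theorem conj_ok : ((List.range 2).all fun g => (List.range 5).all fun k =>
    key ((wordN g).reverse ++ (wordA k ++ wordN g)) == key (wordEl ((rowN g).getD k 0))) = true := by decide +kernel

theorem sig_ok : ((List.range 2).all fun g => (List.range 11).all fun i =>
    Nat.blt (sgN g i) 11 && (Nat.beq (comb (rowN g) (lineN i)) (lineN (sgN g i)) ||
      Nat.beq (comb (rowN g) (lineN i)) (negN (lineN (sgN g i))))) = true := by decide +kernel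

/-- a signed line -/
def pm (b : Bool) (i : ℕ) : ℕ := cond b (negN (lineN i)) (lineN i)

/-- membership in the signed lines -/
def isLine (n : ℕ) : Bool := (List.range 11).any fun t => Nat.beq n (lineN t) || Nat.beq n (negN (lineN t))

theorem four_ok : ([false, true].all fun a => [false, true].all fun b => [false, true].all fun c =>
    [false, true].all fun d => [false, true].all fun e => (List.range 11).all fun t =>
      !((List.range 11).all fun i => isLine (comb [pm a 0, pm b 1, pm c 2, pm d 3, pm e t] (lineN i))) ||
        (Nat.beq t 4 && (a == b) && (a == c) && (a == d) && (a == e))) = true := by decide +kernel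

theorem lines_apart : ((List.range 11).all fun i => !(Nat.beq (lineN i) 0) && Nat.blt (lineN i) 243 &&
    (List.range 11).all fun j => (Nat.beq i j || !(Nat.beq (lineN i) (lineN j))) &&
      !(Nat.beq (lineN i) (negN (lineN j)))) = true := by decide +kernel

theorem basis_lines : ((List.range 5).all fun k => Nat.beq (lineN k) (3 ^ k)) = true := by decide +kernel

/-- following a word of letters on the lines -/
def runS (w : List ℕ) (i : ℕ) : ℕ := w.foldl (fun i g => sgN g i) i

/-- the transversal word -/
def chainW (k t : ℕ) : List ℕ := (Data.chain.getD k []).getD (t - k) []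

theorem chain_ok : ((List.range 4).all fun k => (List.range 11).all fun t => Nat.blt t k ||
    ((chainW k t).all (fun g => Nat.blt g 2) && Nat.beq (runS (chainW k t) k) t &&
      (List.range k).all fun j => Nat.beq (runS (chainW k t) j) j)) = true := by decide +kernel

/-- the eleven-cycle -/
theorem eleven_ok : (Data.word11.all (fun g => Nat.blt g 2) &&
    (List.range 11).all (fun i => Nat.beq ((List.range 11).foldl (fun j _ => runS Data.word11 j) i) i) &&
    !(Nat.beq (runS Data.word11 0) 0)) = true := by decide +kernel

end CfsgLib.Recog.SuzEleven
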