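import Cfsg.Agent.Lib.Recog.SuzEleven.Cent
import Cfsg.Agent.Lib.Recog.SuzEleven.NormChecks

/-!
The normaliser of the group of order 243: its action on eleven lines (owner: helper22).
-/

set_option autoImplicit false
set_option maxRecDepth 100000
set_option Elab.async false

namespace CfsgLib.Recog.SuzEleven

open CfsgLib.ThreeTrans.CosetIndex CfsgLib.Recog.SuzRankThree

/-- Being a line up to sign. -/
def Pm (i : Fin 11) (v : V) : Prop := v = L i ∨ v = -L i

theorem pm_unique {i j : Fin 11} {v : V} (hi : Pm i v) (hj : Pm j v) : i = j := by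
  have key : ∀ i j : Fin 11, (L i = L j ∨ L i = -L j) → i = j := by decide +kernel
  rcases hi with h | h <;> rcases hj with h' | h' <;> refine key i j ?_
  · exact Or.inl (h.symm.trans h')
  · exact Or.inr (h.symm.trans h')
  · exact Or.inr (neg_eq_iff_eq_neg.1 (h.symm.trans h'))
  · exact Or.inl (neg_injective (h.symm.trans h'))

theorem pm_ne {i : Fin 11} {v : V} (h : Pm i v) : v ≠ 0 := by
  have key : ∀ i : Fin 11, L i ≠ 0 := by decide +kernel
  rcases h with h | h <;> rw [h]
  · exact key i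
  · exact neg_ne_zero.2 (key i)

theorem has_fix_iff (v : V) : (∃ y, (el v).1 y = y) ↔ v = 0 ∨ ∃ i : Fin 11, Pm i v := by
  constructor
  · rintro ⟨y, hy⟩
    obtain ⟨r, hr, w, hw⟩ := exists_rep y
    exact (stab_any hy hr hw).imp_right fun h => ⟨⟨lineAt r, lineAt_lt hr⟩, h⟩
  · rintro (rfl | ⟨i, h⟩)
    · exact ⟨pnt 0, el_apply_zero _⟩
    have hr : ∀ i : Fin 11, ∃ r : Fin 22, lineAt r = i := by decide +kernel
    obtain ⟨r, hr⟩ := hr i
    have hl : (el (L i)).1 (pnt r) = pnt r := by rw [← hr]; exact L_fix r.2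
    refine ⟨pnt r, ?_⟩
    rcases h with rfl | rfl
    · exact hl
    · nth_rewrite 1 [← hl]
      rw [← el_apply_add, neg_add_cancel, el_apply_zero]

/-- conjugation induces a linear map -/
theorem exists_lin {g : G0} (hg : g ∈ Subgroup.normalizer (A : Set G0)) :
    ∃ f : V →+ V, ∀ v, g * el v * g⁻¹ = el (f v) := by
  choose f hf using fun v => exists_el ((Subgroup.mem_normalizer_iff.1 hg (el v)).1 (el_mem v))
  refine ⟨AddMonoidHom.mk' f fun v w => el_injective ?_, fun v => (hf v).symm⟩
  rw [el_add, hf, hf, hf, el_add]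
  group

theorem lin_apply (f : V →+ V) (v : V) : f v = ∑ k : Fin 5, (v k).val • f (vec (3 ^ (k : ℕ))) := by
  have e : v = ∑ k : Fin 5, (v k).val • vec (3 ^ (k : ℕ)) := by
    funext j
    rw [Finset.sum_apply, Fin.sum_univ_five]
    fin_cases j <;> simp [vec, dg]
  conv_lhs => rw [e]
  rw [map_sum]
  simp only [map_nsmul]

theorem lin_rows (f : V →+ V) (rows : List ℕ) (h : ∀ k : Fin 5, f (vec (3 ^ (k : ℕ))) = vec (rows.getD k 0))
    (n : ℕ) : f (vec n) = vec (comb rows n) := by
  rw [lin_apply, vec_comb]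
  simp only [h]

theorem lin_pm {g : G0} {f : V →+ V} (hf : ∀ v, g * el v * g⁻¹ = el (f v)) (i : Fin 11) :
    ∃ j : Fin 11, Pm j (f (L i)) := by
  obtain ⟨y, hy⟩ := (has_fix_iff (L i)).2 (Or.inr ⟨i, Or.inl rfl⟩)
  have hfix : (el (f (L i))).1 (g.1 y) = g.1 y := by
    rw [← hf, Subgroup.coe_mul, Subgroup.coe_mul, Equiv.Perm.mul_apply, Equiv.Perm.mul_apply, InvMemClass.coe_inv,
      perm_inv_apply, hy]
  refine ((has_fix_iff _).1 ⟨_, hfix⟩).resolve_left fun h0 => pm_ne (Or.inl rfl : Pm i (L i)) ?_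
  have e := hf (L i)
  rw [h0, el_zero] at e
  exact el_injective ((conj_eq_one_iff.1 e).trans el_zero.symm)

/-- the image of a line -/
def Sends (g : G0) (i j : Fin 11) : Prop := ∃ v, Pm j v ∧ g * el (L i) * g⁻¹ = el v

theorem sends_unique {g : G0} {i j j' : Fin 11} (h : Sends g i j) (h' : Sends g i j') : j = j' := by
  obtain ⟨v, hv, e⟩ := h
  obtain ⟨w, hw, e'⟩ := h'
  exact pm_unique hv (el_injective (e.symm.trans e') ▸ hw)

theorem sends_exists {g : G0} (hg : g ∈ Subgroup.normalizer (A : Set G0)) (i : Fin 11) : ∃ j, Sends g i j := by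
  obtain ⟨f, hf⟩ := exists_lin hg
  obtain ⟨j, hj⟩ := lin_pm hf i
  exact ⟨j, _, hj, hf _⟩

theorem sends_mul {g h : G0} {i j k : Fin 11} (h1 : Sends h i j) (h2 : Sends g j k) : Sends (g * h) i k := by
  obtain ⟨v, hv, e⟩ := h1
  obtain ⟨w, hw, e'⟩ := h2
  have e2 : g * h * el (L i) * (g * h)⁻¹ = g * el v * g⁻¹ := by rw [← e]; group
  rcases hv with rfl | rfl
  · exact ⟨w, hw, e2.trans e'⟩
  · refine ⟨-w, hw.elim (fun h => Or.inr (by rw [h])) (fun h => Or.inl (by rw [h, neg_neg])), e2.trans ?_⟩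
    rw [el_neg, el_neg, ← e']
    group

theorem sends_one (i : Fin 11) : Sends 1 i i := ⟨_, Or.inl rfl, by group⟩

/-- the normaliser -/
noncomputable abbrev NA : Subgroup G0 := Subgroup.normalizer (A : Set G0)

/-- the image of a line -/
noncomputable def sig (g : NA) (i : Fin 11) : Fin 11 := (sends_exists g.2 i).choose

theorem sig_spec (g : NA) (i : Fin 11) : Sends g.1 i (sig g i) := (sends_exists g.2 i).choose_spec

theorem sig_eq {g : NA} {i j : Fin 11} (h : Sends g.1 i j) : sig g i = j := sends_unique (sig_spec g i) h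

theorem sig_mul (g h : NA) (i : Fin 11) : sig (g * h) i = sig g (sig h i) :=
  sig_eq (sends_mul (sig_spec h i) (sig_spec g _))

theorem sig_one (i : Fin 11) : sig (1 : NA) i = i := sig_eq (sends_one i)

/-- the action on the lines -/
noncomputable def psi : NA →* Equiv.Perm (Fin 11) :=
  MonoidHom.mk' (fun g => ⟨sig g, sig g⁻¹, fun i => by rw [← sig_mul, inv_mul_cancel, sig_one],
    fun i => by rw [← sig_mul, mul_inv_cancel, sig_one]⟩) fun g h => Equiv.ext fun i => sig_mul g h i

theorem psi_apply (g : NA) (i : Fin 11) : psi g i = sig g i := rfl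

theorem A_le : A ≤ NA := Subgroup.le_normalizer

theorem fix_four {g : NA} (h : ∀ i : Fin 11, (i : ℕ) < 4 → psi g i = i) :
    (∀ v, g.1 * el v * g.1⁻¹ = el v) ∨ ∀ v, g.1 * el v * g.1⁻¹ = el (-v) := by
  obtain ⟨f, hf⟩ := exists_lin g.2
  have hrow : ∀ (i j : Fin 11), psi g i = j → ∃ b : Bool, f (L i) = vec (pm b j) := by
    intro i j e
    obtain ⟨v, hv, e'⟩ := sig_spec g i
    rw [← psi_apply, e] at hv
    rw [el_injective ((hf _).symm.trans e')]
    rcases hv with hv | hv
    · exact ⟨false, hv⟩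
    · exact ⟨true, by rw [hv, pm, cond_true, vec_negN]; rfl⟩
  have hbase : ∀ k : ℕ, k < 5 → vec (3 ^ k) = L k := by
    intro k hk
    have hb := basis_lines
    simp only [List.all_eq_true, List.mem_range, Nat.beq_eq] at hb
    rw [L, hb k hk]
  obtain ⟨a, ha⟩ := hrow 0 0 (h 0 (by norm_num))
  obtain ⟨b, hb⟩ := hrow 1 1 (h 1 (by norm_num))
  obtain ⟨c, hc⟩ := hrow 2 2 (h 2 (by norm_num))
  obtain ⟨d, hd⟩ := hrow 3 3 (h 3 (by norm_num))
  obtain ⟨e, he⟩ := hrow 4 _ rfl
  set t := psi g 4 with ht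
  set rows := [pm a 0, pm b 1, pm c 2, pm d 3, pm e t] with hrows
  have hk : ∀ k : Fin 5, f (vec (3 ^ (k : ℕ))) = vec (rows.getD k 0) := by
    intro k
    rw [hbase k k.2]
    fin_cases k
    · exact ha
    · exact hb
    · exact hc
    · exact hd
    · exact he
  have hall : ((List.range 11).all fun i => isLine (comb rows (lineN i))) = true := by
    simp only [List.all_eq_true, List.mem_range]
    intro i hi
    obtain ⟨j, hj⟩ := lin_pm hf ⟨i, hi⟩
    simp only [L] at hj
    rw [lin_rows f rows hk] at hj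
    simp only [isLine, List.any_eq_true, List.mem_range, Bool.or_eq_true, Nat.beq_eq]
    refine ⟨j, j.2, ?_⟩
    have hl := lines_apart
    simp only [List.all_eq_true, List.mem_range, Bool.and_eq_true, Nat.blt_eq] at hl
    have hcode : ∀ n, n < 243 → code (vec n) = n := by decide +kernel
    rcases hj with hj | hj
    · refine Or.inl ?_
      have := congrArg code hj
      rwa [L, hcode _ (show comb rows (lineN i) < 243 from mk5_lt _), hcode _ (hl j j.2).1.2] at this
    · refine Or.inr ?_
      have := congrArg code hj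
      rwa [L, ← vec_negN, hcode _ (show comb rows (lineN i) < 243 from mk5_lt _),
        hcode _ (show negN (lineN j) < 243 from mk5_lt _)] at this
  have h5 : (!((List.range 11).all fun i => isLine (comb rows (lineN i))) ||
      (Nat.beq t 4 && (a == b) && (a == c) && (a == d) && (a == e))) = true := by
    have h4' := four_ok
    simp only [List.all_eq_true] at h4'
    have hmem : ∀ x : Bool, x ∈ [false, true] := by decide
    have := h4' a (hmem a) b (hmem b) c (hmem c) d (hmem d) e (hmem e) t (List.mem_range.2 t.2)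
    exact this
  rw [hall, Bool.not_true, Bool.false_or] at h5
  simp only [Bool.and_eq_true, Nat.beq_eq, beq_iff_eq] at h5
  obtain ⟨⟨⟨⟨ht4, rfl⟩, rfl⟩, rfl⟩, rfl⟩ := h5
  have hk' : ∀ k : Fin 5, f (vec (3 ^ (k : ℕ))) = vec (pm a k) := fun k => by
    rw [hk, hrows, ht4]
    fin_cases k <;> rfl
  cases a
  · refine Or.inl fun v => ?_
    rw [hf]
    refine congrArg el ?_
    rw [lin_apply]
    simp only [hk', pm, cond_false]
    conv_rhs => rw [show v = (AddMonoidHom.id V) v from rfl, lin_apply]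
    simp only [AddMonoidHom.id_apply]
    exact Finset.sum_congr rfl fun k _ => by rw [hbase k k.2]; rfl
  · refine Or.inr fun v => ?_
    rw [hf]
    refine congrArg el ?_
    rw [lin_apply]
    simp only [hk', pm, cond_true, vec_negN]
    conv_rhs => rw [show -v = (-AddMonoidHom.id V) v from rfl, lin_apply]
    simp only [AddMonoidHom.neg_apply, AddMonoidHom.id_apply]
    exact Finset.sum_congr rfl fun k _ => by rw [hbase k k.2]; rfl

end CfsgLib.Recog.SuzEleven
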