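import Cfsg.Agent.Lib.Recog.SuzEleven.Main
import Cfsg.Agent.Lib.LocalEvenB.SuzType.Locals.PairNear
import Cfsg.Agent.Lib.LocalEvenB.SuzType.Locals.Setup
import Cfsg.Agent.Lib.LocalEvenB.McLUnitary.Lines
import Cfsg.Prelude.Def_Spor_Mathieu

/-!
The group of order 243 in any group of Suzuki type (owner: helper22).
-/

set_option autoImplicit false
set_option maxRecDepth 100000
set_option Elab.async false

namespace CfsgLib.Recog.SuzEleven

open CfsgLib.Recog.SuzRankThree

theorem card_psu_four {F : Type} [Field F] [Fintype F] (hF : Fintype.card F = 9) :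
    Nat.card (Cfsg.PSU 4 F 3) = 3265920 := by
  classical
  have hP := CfsgLib.Classical.Herm.card_PSU (show Fintype.card F = 3 ^ 2 from hF) 4 (by norm_num)
  norm_num [Finset.prod_range_succ, Nat.even_iff] at hP
  simp only [← Nat.card_eq_fintype_card] at hP
  omega

theorem card_cent_congr {G H : Type*} [Group G] [Group H] (ε : G ≃* H) (t : G) :
    Nat.card (Subgroup.centralizer ({ε t} : Set H)) = Nat.card (Subgroup.centralizer ({t} : Set G)) := by
  refine Nat.card_congr ((Equiv.subtypeEquiv ε.symm.toEquiv fun x => ?_))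
  rw [Subgroup.mem_centralizer_singleton_iff, Subgroup.mem_centralizer_singleton_iff]
  show _ ↔ ε.symm x * t = t * ε.symm x
  rw [← ε.symm.injective.eq_iff (a := x * ε t), map_mul, map_mul, MulEquiv.symm_apply_apply]

theorem invHyp_of_four {G : Type*} [Group G] [Finite G] {z : G} {Q : Subgroup G} {p : G → Nat} {k t v : G}
    (W : CfsgLib.LocalEvenB.SuzType.Four z Q p k t v) (ε : G ≃* G0) : InvHyp := by
  intro u hu hu1
  obtain ⟨u, rfl⟩ := ε.surjective u
  have hu' : u * u = 1 := ε.injective (by rw [map_mul, hu, map_one])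
  have hu1' : u ≠ 1 := fun e => hu1 (by rw [e, map_one])
  rw [card_cent_congr]
  obtain ⟨s, hs, r, hr, -, -, -, -, hcls⟩ := W.frame.classify
  have ht1 : t ≠ 1 := fun e => by
    have h1 := W.card_K
    have h2 := W.card_group
    rw [e, Subgroup.centralizer_eq_top_iff_subset.2 (by simp), Subgroup.card_top] at h1
    omega
  have hcong : ∀ a b : G, IsConj a b →
      Nat.card (Subgroup.centralizer ({a} : Set G)) = Nat.card (Subgroup.centralizer ({b} : Set G)) := by
    intro a b hab
    obtain ⟨c, rfl⟩ := isConj_iff.1 hab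
    exact (card_cent_congr (MulAut.conj c) a).symm
  have hz := W.frame.sys.cardC
  have ht := W.card_K
  have htsr : IsConj (s * r) t := (hcls t W.sq_t ht1).resolve_left fun h => by
    have := hcong _ _ h
    rw [hz, ht] at this
    norm_num at this
  rcases hcls u hu' hu1' with h | h
  · rw [← hcong _ _ h, hz]
    norm_num
  · rw [← hcong _ _ h, hcong _ _ htsr, ht]
    norm_num

theorem props_map {G H : Type*} [Group G] [Group H] (ε : G ≃* H) {A : Subgroup G} (h1 : Cfsg.IsElementaryAbelian 3 A)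
    (h2 : Nat.card A = 3 ^ 5) (h3 : Subgroup.centralizer (A : Set G) = A)
    (h4 : (A.subgroupOf (Subgroup.normalizer (A : Set G))).Normal)
    (h5 : Cfsg.Spor.IsoM11 (↥(Subgroup.normalizer (A : Set G)) ⧸ A.subgroupOf (Subgroup.normalizer (A : Set G)))) :
    Cfsg.IsElementaryAbelian 3 (A.map ε.toMonoidHom) ∧ Nat.card (A.map ε.toMonoidHom : Subgroup H) = 3 ^ 5 ∧
      Subgroup.centralizer ((A.map ε.toMonoidHom : Subgroup H) : Set H) = A.map ε.toMonoidHom ∧
      ∃ _ : ((A.map ε.toMonoidHom).subgroupOf (Subgroup.normalizer ((A.map ε.toMonoidHom : Subgroup H) : Set H))).Normal,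
        Cfsg.Spor.IsoM11 (↥(Subgroup.normalizer ((A.map ε.toMonoidHom : Subgroup H) : Set H)) ⧸
          (A.map ε.toMonoidHom).subgroupOf (Subgroup.normalizer ((A.map ε.toMonoidHom : Subgroup H) : Set H))) := by
  set B := A.map ε.toMonoidHom with hB
  have hmem : ∀ x, x ∈ A ↔ ε x ∈ B := fun x => by
    rw [hB]; exact (Subgroup.mem_map_iff_mem ε.injective).symm
  have hsur : ∀ y ∈ B, ∃ x ∈ A, ε x = y := fun y hy => Subgroup.mem_map.1 hy
  refine ⟨⟨⟨⟨fun a b => Subtype.ext ?_⟩⟩, fun b hb => ?_⟩, ?_, ?_, Subgroup.normal_subgroupOf_of_le_normalizer le_rfl, ?_⟩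
  · obtain ⟨x, hx, ex⟩ := hsur a a.2
    obtain ⟨y, hy, ey⟩ := hsur b b.2
    have := congrArg Subtype.val (h1.1.1.comm ⟨x, hx⟩ ⟨y, hy⟩)
    show (a : H) * b = b * a
    rw [← ex, ← ey, ← map_mul, ← map_mul]
    exact congrArg ε this
  · obtain ⟨x, hx, rfl⟩ := hsur b hb
    rw [← map_pow, h1.2 x hx, map_one]
  · rw [hB, Subgroup.card_map_of_injective ε.injective, h2]
  · ext y
    obtain ⟨x, rfl⟩ := ε.surjective y
    rw [← hmem]
    conv_rhs => rw [← h3]
    simp only [Subgroup.mem_centralizer_iff, SetLike.mem_coe]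
    refine ⟨fun h a ha => ε.injective ?_, fun h b hb => ?_⟩
    · rw [map_mul, map_mul]; exact h _ ((hmem a).1 ha)
    · obtain ⟨a, ha, rfl⟩ := hsur b hb
      rw [← map_mul, ← map_mul, h a ha]
  · have hNN : (Subgroup.normalizer (A : Set G)).map ε.toMonoidHom = Subgroup.normalizer (B : Set H) := by
      rw [hB]
      exact Subgroup.map_normalizer_eq_of_bijective (H := A) (f := ε.toMonoidHom) ε.bijective
    let eN : Subgroup.normalizer (A : Set G) ≃* Subgroup.normalizer (B : Set H) :=
      (ε.subgroupMap _).trans (MulEquiv.subgroupCongr hNN)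
    have hcoe : ∀ x, ((eN x : Subgroup.normalizer (B : Set H)) : H) = ε x := fun x => rfl
    obtain ⟨e5⟩ := h5
    haveI := h4
    haveI : (B.subgroupOf (Subgroup.normalizer (B : Set H))).Normal :=
      Subgroup.normal_subgroupOf_of_le_normalizer le_rfl
    refine ⟨(QuotientGroup.congr _ _ eN ?_).symm.trans e5⟩
    ext y
    obtain ⟨x, rfl⟩ := eN.surjective y
    constructor
    · rintro ⟨a, ha, e⟩
      rw [Subgroup.mem_subgroupOf, hcoe, ← hmem]
      rw [← eN.injective e]
      exact ha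
    · intro hy
      rw [Subgroup.mem_subgroupOf, hcoe, ← hmem] at hy
      exact ⟨x, hy, rfl⟩

theorem exists_in_group {G : Type*} [Group G] (ε : G ≃* G0) (hI : InvHyp) :
    ∃ A : Subgroup G, Cfsg.IsElementaryAbelian 3 A ∧ Nat.card A = 3 ^ 5 ∧ Subgroup.centralizer (A : Set G) = A ∧
      ∃ h : (A.subgroupOf (Subgroup.normalizer (A : Set G))).Normal,
        Cfsg.Spor.IsoM11 (↥(Subgroup.normalizer (A : Set G)) ⧸ A.subgroupOf (Subgroup.normalizer (A : Set G))) := by
  obtain ⟨h1, h2, h3, h4, h5⟩ := props_map ε.symm elementary (card_A.trans (by norm_num)) (centralizer_eq hI)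
    (Subgroup.normal_subgroupOf_of_le_normalizer le_rfl) (quotient_m11 hI)
  exact ⟨_, h1, h2, h3, h4, h5⟩

end CfsgLib.Recog.SuzEleven
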